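import Groth.Agent.Sga3.GModStable.Noetherian
import Groth.Agent.AlgGrp2.TorsorQuot
import Mathlib.Algebra.Module.Projective

/-!
When the functions of a flat group scheme form a projective module, finitely generated submodules of a flat
module with an action of the group lie in finitely generated stable submodules.
-/

set_option autoImplicit false

universe u

open CategoryTheory Limits MonoidalCategory CartesianMonoidalCategory MonObj GrpObj AlgebraicGeometry
open scoped TensorProduct

noncomputable section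

namespace Groth.Sga3.GModStable

variable {R : Type u} [CommRing R]

/-- global functions as an algebra over the base -/
@[instance_reducible]
def fnAlg (X : Over (Spec (CommRingCat.of R))) : Algebra R Γ(X.left, ⊤) :=
  (((Scheme.ΓSpecIso (CommRingCat.of R)).inv ≫ X.hom.appTop).hom).toAlgebra

attribute [local instance] fnAlg

variable {X : Over (Spec (CommRingCat.of R))}

/-- the values of functions at a point -/
def evFn {B : Type u} [CommRing B] [Algebra R B] (g : VecGrp.pt R B ⟶ X) : Γ(X.left, ⊤) →ₐ[R] B :=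
  { (g.left.appTop ≫ (Scheme.ΓSpecIso (CommRingCat.of B)).hom).hom with
    commutes' := fun c => by
      show ((((Scheme.ΓSpecIso (CommRingCat.of R)).inv ≫ X.hom.appTop) ≫ g.left.appTop) ≫
        (Scheme.ΓSpecIso (CommRingCat.of B)).hom) c = _
      rw [Category.assoc (Scheme.ΓSpecIso (CommRingCat.of R)).inv, ← Scheme.Hom.comp_appTop, Over.w g,
        Category.assoc]
      show ((Scheme.ΓSpecIso (CommRingCat.of R)).inv ≫ (Spec.map (CommRingCat.ofHom (algebraMap R B))).appTop ≫
        (Scheme.ΓSpecIso (CommRingCat.of B)).hom) c = _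
      rw [Scheme.ΓSpecIso_naturality, Iso.inv_hom_id_assoc]
      rfl }

theorem evFn_ptMap {B B' : Type u} [CommRing B] [Algebra R B] [CommRing B'] [Algebra R B'] (φ : B →ₐ[R] B')
    (g : VecGrp.pt R B ⟶ X) (a : Γ(X.left, ⊤)) : evFn (VecGrp.ptMap φ ≫ g) a = φ (evFn g a) := by
  show (((Spec.map (CommRingCat.ofHom φ.toRingHom)) ≫ g.left).appTop ≫ (Scheme.ΓSpecIso (CommRingCat.of B')).hom) a =
    (g.left.appTop ≫ (Scheme.ΓSpecIso (CommRingCat.of B)).hom ≫ CommRingCat.ofHom φ.toRingHom) a
  rw [Scheme.Hom.comp_appTop, Category.assoc, ← Scheme.ΓSpecIso_naturality]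

/-- contraction against a functional -/
def contract {A : Type u} [AddCommGroup A] [Module R A] (φ : A →ₗ[R] R) (M : Type u) [AddCommGroup M]
    [Module R M] : A ⊗[R] M →ₗ[R] M :=
  (TensorProduct.lid R M).toLinearMap ∘ₗ φ.rTensor M

@[simp] theorem contract_tmul {A M : Type u} [AddCommGroup A] [Module R A] [AddCommGroup M] [Module R M]
    (φ : A →ₗ[R] R) (a : A) (x : M) : contract φ M (a ⊗ₜ x) = φ a • x := by
  simp [contract]

theorem contract_lTensor {A M M' : Type u} [AddCommGroup A] [Module R A] [AddCommGroup M] [Module R M]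
    [AddCommGroup M'] [Module R M'] (φ : A →ₗ[R] R) (f : M →ₗ[R] M') (t : A ⊗[R] M) :
    contract φ M' (f.lTensor A t) = f (contract φ M t) := by
  induction t using TensorProduct.induction_on with
  | zero => simp
  | tmul a x => simp
  | add x y hx hy => simp only [map_add, hx, hy]

/-- a dual basis of a projective module expands the elements of a tensor product -/
theorem exists_expansion (A : Type u) [AddCommGroup A] [Module R A] [Module.Projective R A] (M : Type u)
    [AddCommGroup M] [Module R M] : ∃ ε : A → (A →ₗ[R] R), ∀ t : A ⊗[R] M,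
      ∃ T : Finset A, ∀ T' : Finset A, T ⊆ T' → t = ∑ b ∈ T', b ⊗ₜ[R] contract (ε b) M t := by
  classical
  obtain ⟨s, hs⟩ := (inferInstance : Module.Projective R A).out
  refine ⟨fun b => (Finsupp.lapply b).comp s, fun t => ?_⟩
  induction t using TensorProduct.induction_on with
  | zero => exact ⟨∅, fun T' _ => by simp⟩
  | tmul a x =>
    refine ⟨(s a).support, fun T' hT' => ?_⟩
    have h1 : a = ∑ b ∈ T', s a b • b := by
      conv_lhs => rw [← hs a, Finsupp.linearCombination_apply]
      rw [Finsupp.sum_of_support_subset (s a) hT' (fun b c => c • id b) (fun b _ => zero_smul R _)]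
      rfl
    conv_lhs => rw [h1, TensorProduct.sum_tmul]
    refine Finset.sum_congr rfl fun b _ => ?_
    simp [TensorProduct.smul_tmul]
  | add x y hx hy =>
    obtain ⟨T, hT⟩ := hx
    obtain ⟨T₂, hT₂⟩ := hy
    refine ⟨T ∪ T₂, fun T' hT' => ?_⟩
    simp only [map_add, TensorProduct.tmul_add, Finset.sum_add_distrib]
    rw [← hT T' (Finset.union_subset_left hT'), ← hT₂ T' (Finset.union_subset_right hT')]

variable {G : Over (Spec (CommRingCat.of R))} [GrpObj G] [Flat G.hom] [QuasiCompact G.hom] [QuasiSeparated G.hom]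

omit [GrpObj G] [Flat G.hom] in
/-- functions are the equaliser of the functions on a covering point -/
theorem exists_equalizer {C : Type u} [CommRing C] [Algebra R C] (u : VecGrp.pt R C ⟶ G) [Flat u.left]
    [Surjective u.left] [QuasiCompact u.left] :
    ∃ (D : Type u) (_ : CommRing D) (_ : Algebra R D) (j₁ j₂ : C →ₐ[R] D),
      VecGrp.ptMap j₁ ≫ u = VecGrp.ptMap j₂ ≫ u ∧ Function.Injective (evFn u) ∧
      ∀ c, j₁ c = j₂ c → ∃ a, evFn u a = c := by
  let W : Over (Spec (CommRingCat.of R)) :=
    Over.mk (pullback.fst u.left u.left ≫ (VecGrp.pt R C).hom)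
  let a : W ⟶ VecGrp.pt R C := Over.homMk (pullback.fst u.left u.left) rfl
  let b : W ⟶ VecGrp.pt R C := Over.homMk (pullback.snd u.left u.left) (by
    change pullback.snd u.left u.left ≫ (VecGrp.pt R C).hom = pullback.fst u.left u.left ≫ (VecGrp.pt R C).hom
    rw [← Over.w u, pullback.condition_assoc])
  haveI : QuasiSeparated (VecGrp.pt R C).hom :=
    inferInstanceAs (QuasiSeparated (Spec.map (CommRingCat.ofHom (algebraMap R C))))
  haveI : QuasiCompact (VecGrp.pt R C).hom :=
    inferInstanceAs (QuasiCompact (Spec.map (CommRingCat.ofHom (algebraMap R C))))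
  haveI : QuasiSeparated u.left := by
    haveI : QuasiSeparated (u.left ≫ G.hom) := by rw [Over.w u]; infer_instance
    exact QuasiSeparated.of_comp u.left G.hom
  haveI : QuasiCompact W.hom := by
    change QuasiCompact (pullback.fst u.left u.left ≫ (VecGrp.pt R C).hom)
    infer_instance
  haveI : QuasiSeparated W.hom := by
    change QuasiSeparated (pullback.fst u.left u.left ≫ (VecGrp.pt R C).hom)
    infer_instance
  obtain ⟨D, _, _, w, hwf, hws, hwq⟩ := exists_cover W
  haveI := hwf; haveI := hws; haveI := hwq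
  obtain ⟨j₁, h₁⟩ := exists_ptMap (w ≫ a)
  obtain ⟨j₂, h₂⟩ := exists_ptMap (w ≫ b)
  refine ⟨D, inferInstance, inferInstance, j₁, j₂, ?_, ?_, fun c hc => ?_⟩
  · rw [← h₁, ← h₂, Category.assoc, Category.assoc]
    congr 1
    exact Over.OverMorphism.ext pullback.condition
  · haveI : EffectiveEpi u.left := inferInstance
    exact (Scheme.ΓSpecIso (CommRingCat.of C)).commRingCatIsoToRingEquiv.injective.comp
      (Groth.AlgGrp2.ConstFun.appTop_injective_of_epi u.left)
  · haveI : EffectiveEpi w.left := inferInstance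
    let f : Γ((VecGrp.pt R C).left, ⊤) := (Scheme.ΓSpecIso (CommRingCat.of C)).inv c
    have key : ∀ (p : W ⟶ VecGrp.pt R C) (j : C →ₐ[R] D), w ≫ p = VecGrp.ptMap j →
        w.left.appTop (p.left.appTop f) = (Scheme.ΓSpecIso (CommRingCat.of D)).inv (j c) := by
      intro p j hp
      rw [← CommRingCat.comp_apply, ← Scheme.Hom.comp_appTop,
        show w.left ≫ p.left = Spec.map (CommRingCat.ofHom j.toRingHom) from congrArg CommaMorphism.left hp]
      show ((Scheme.ΓSpecIso (CommRingCat.of C)).inv ≫ (Spec.map (CommRingCat.ofHom j.toRingHom)).appTop) c = _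
      rw [← Scheme.ΓSpecIso_inv_naturality]
      rfl
    have h : (pullback.fst u.left u.left).appTop f = (pullback.snd u.left u.left).appTop f :=
      Groth.AlgGrp2.ConstFun.appTop_injective_of_epi w.left
        ((key a j₁ h₁).trans ((congrArg _ hc).trans (key b j₂ h₂).symm))
    obtain ⟨s, hs⟩ := Groth.AlgGrp2.exists_app_eq u.left f h
    refine ⟨s, ?_⟩
    show (Scheme.ΓSpecIso (CommRingCat.of C)).hom (u.left.appTop s) = c
    rw [hs]
    exact (Scheme.ΓSpecIso (CommRingCat.of C)).commRingCatIsoToRingEquiv.apply_symm_apply c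

theorem exists_fg_stable_projective
    (hA : Module.Projective R Γ(G.left, ⊤)) {E : Type u} [AddCommGroup E] [Module R E] [Module.Flat R E]
    (m : VecGrp.GMod G E) (M : Submodule R E) (hM : M.FG) :
    ∃ N : Submodule R E, M ≤ N ∧ N.FG ∧
      ∀ (B : Type u) [CommRing B] [Algebra R B] (g : VecGrp.pt R B ⟶ G) (x : E), x ∈ N →
        m.ρ B g ((1 : B) ⊗ₜ[R] x) ∈ LinearMap.range (N.subtype.baseChange B) := by
  classical
  haveI := hA
  obtain ⟨C, _, _, u, hf, hs, hqc⟩ := exists_cover G
  haveI := hf; haveI := hs; haveI := hqc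
  haveI : Module.Flat R C := flat_of_cover u
  obtain ⟨D, _, _, j₁, j₂, hj, hinj, hsurj⟩ := exists_equalizer u
  let A := Γ(G.left, ⊤)
  let inc : A →ₗ[R] C := (evFn u).toLinearMap
  let δ : C →ₗ[R] D := j₁.toLinearMap - j₂.toLinearMap
  have hex : Function.Exact inc δ := fun c => by
    refine ⟨fun h => hsurj c (sub_eq_zero.1 h), ?_⟩
    rintro ⟨a, rfl⟩
    change j₁ (evFn u a) - j₂ (evFn u a) = 0
    rw [← evFn_ptMap, ← evFn_ptMap, hj, sub_self]
  -- the coaction
  have hco : ∀ x : E, ∃ t : A ⊗[R] E, inc.rTensor E t = act m u x := by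
    intro x
    refine (Module.Flat.rTensor_exact E hex _).1 ?_
    rw [show δ = j₁.toLinearMap - j₂.toLinearMap from rfl, LinearMap.rTensor_sub, LinearMap.sub_apply]
    change VecGrp.Wmap j₁ (act m u x) - VecGrp.Wmap j₂ (act m u x) = 0
    rw [Wmap_act, Wmap_act, hj, sub_self]
  choose co hco using hco
  have hev : ∀ {B : Type u} [CommRing B] [Algebra R B] (g : VecGrp.pt R B ⟶ G) (x : E),
      act m g x = VecGrp.Wmap (evFn g) (co x) := by
    intro B _ _ g x
    obtain ⟨B', _, _, φ, ψ, hφ, he⟩ := exists_refine u g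
    apply Wmap_injective φ hφ
    rw [Wmap_act, he, ← Wmap_act, ← hco]
    generalize co x = t
    induction t using TensorProduct.induction_on with
    | zero => simp
    | tmul a y =>
      change ψ (evFn u a) ⊗ₜ[R] y = φ (evFn g a) ⊗ₜ[R] y
      rw [← evFn_ptMap, ← evFn_ptMap, he]
    | add p q hp hq => simp only [map_add, hp, hq]
  -- functions on the product
  let g₁ := VecGrp.ptMap (Algebra.TensorProduct.includeLeft : C →ₐ[R] C ⊗[R] C) ≫ u
  let g₂ := VecGrp.ptMap (Algebra.TensorProduct.includeRight : C →ₐ[R] C ⊗[R] C) ≫ u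
  have hP : ∀ a : A, ∃ p : A ⊗[R] C, inc.rTensor C p = evFn (g₂ * g₁) a := by
    intro a
    refine (Module.Flat.rTensor_exact C hex _).1 ?_
    have hp : VecGrp.ptMap (Algebra.TensorProduct.map j₁ (AlgHom.id R C)) ≫ (g₂ * g₁) =
        VecGrp.ptMap (Algebra.TensorProduct.map j₂ (AlgHom.id R C)) ≫ (g₂ * g₁) := by
      have hc : ∀ j : C →ₐ[R] D,
          VecGrp.ptMap (Algebra.TensorProduct.map j (AlgHom.id R C)) ≫ g₂ =
            VecGrp.ptMap (Algebra.TensorProduct.includeRight : C →ₐ[R] D ⊗[R] C) ≫ u ∧
          VecGrp.ptMap (Algebra.TensorProduct.map j (AlgHom.id R C)) ≫ g₁ =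
            VecGrp.ptMap (Algebra.TensorProduct.includeLeft : D →ₐ[R] D ⊗[R] C) ≫ VecGrp.ptMap j ≫ u := by
        intro j
        simp only [g₁, g₂, ← Category.assoc]
        constructor <;> congr 1 <;> apply Over.OverMorphism.ext <;>
          simp only [Over.comp_left, VecGrp.ptMap_left, ← Spec.map_comp] <;> congr 1 <;> ext c <;> simp
      rw [MonObj.comp_mul, MonObj.comp_mul, (hc j₁).1, (hc j₁).2, (hc j₂).1, (hc j₂).2, hj]
    rw [show δ = j₁.toLinearMap - j₂.toLinearMap from rfl, LinearMap.rTensor_sub, LinearMap.sub_apply]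
    change Algebra.TensorProduct.map j₁ (AlgHom.id R C) (evFn (g₂ * g₁) a) -
      Algebra.TensorProduct.map j₂ (AlgHom.id R C) (evFn (g₂ * g₁) a) = 0
    rw [← evFn_ptMap, ← evFn_ptMap, hp, sub_self]
  choose P hP using hP
  obtain ⟨ε, hε⟩ := exists_expansion (R := R) A E
  choose T hT using hε
  let Nx : E → Submodule R E := fun x =>
    Submodule.span R ((T (co x)).image fun b => contract (ε b) E (co x) : Finset E)
  have hexp : ∀ x, co x = ∑ b ∈ T (co x), b ⊗ₜ[R] contract (ε b) E (co x) := fun x => hT _ _ subset_rfl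
  have hgen : ∀ x, ∀ b ∈ T (co x), contract (ε b) E (co x) ∈ Nx x := fun x b hb =>
    Submodule.subset_span (Finset.mem_image_of_mem _ hb)
  have hself : ∀ x, x ∈ Nx x := by
    intro x
    have h := congrArg (TensorProduct.lid R E) (hev (1 : VecGrp.pt R R ⟶ G) x)
    rw [act_one, hexp, map_sum, map_sum] at h
    have h1 : (∑ b ∈ T (co x), evFn (1 : VecGrp.pt R R ⟶ G) b • contract (ε b) E (co x)) ∈ Nx x :=
      Submodule.sum_mem _ fun b hb => Submodule.smul_mem _ _ (hgen x b hb)
    have h2 : x = ∑ b ∈ T (co x), evFn (1 : VecGrp.pt R R ⟶ G) b • contract (ε b) E (co x) := by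
      simpa using h
    exact (congrArg (· ∈ Nx x) h2).mpr h1
  have hstab : ∀ x, ∀ b ∈ T (co x),
      act m u (contract (ε b) E (co x)) ∈ LinearMap.range ((Nx x).subtype.baseChange C) := by
    intro x b₀ hb₀
    let v : A ⊗[R] (C ⊗[R] E) := ∑ b ∈ T (co x),
      TensorProduct.assoc R A C E (P b ⊗ₜ[R] contract (ε b) E (co x))
    have hv : (act m u).lTensor A (co x) = v := by
      apply Module.Flat.rTensor_preserves_injective_linearMap (M := C ⊗[R] E) inc hinj
      apply (TensorProduct.assoc R C C E).symm.injective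
      have h1 : inc.rTensor (C ⊗[R] E) ((act m u).lTensor A (co x)) = (act m u).lTensor C (act m u x) := by
        rw [← hco]
        generalize co x = t
        induction t using TensorProduct.induction_on with
        | zero => simp
        | tmul a y => simp
        | add p q hp hq => simp only [map_add, hp, hq]
      rw [h1, assoc_lTensor_act_act, hev, hexp, map_sum]
      simp only [v, map_sum]
      refine Finset.sum_congr rfl fun b _ => ?_
      rw [VecGrp.Wmap_tmul, ← hP b]
      generalize P b = p
      induction p using TensorProduct.induction_on with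
      | zero => simp
      | tmul a c => simp
      | add p q hp hq => simp only [map_add, TensorProduct.add_tmul, hp, hq]
    rw [← contract_lTensor, hv, map_sum]
    refine Submodule.sum_mem ((LinearMap.range ((Nx x).subtype.baseChange C)).restrictScalars R) fun b hb => ?_
    generalize P b = p
    induction p using TensorProduct.induction_on with
    | zero => simp
    | tmul a c =>
      refine ⟨ε b₀ a • (c ⊗ₜ ⟨_, hgen x b hb⟩), ?_⟩
      simp [TensorProduct.smul_tmul']
    | add p q hp hq =>
      simp only [TensorProduct.add_tmul, map_add]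
      exact add_mem hp hq
  obtain ⟨s, hs⟩ := hM
  let N := ⨆ x ∈ s, Nx x
  have hle : ∀ x ∈ s, Nx x ≤ N := fun x hx => le_iSup₂ (f := fun x (_ : x ∈ s) => Nx x) x hx
  refine ⟨N, ?_, Submodule.fg_biSup s Nx fun x _ => ⟨_, rfl⟩, fun B _ _ g x hx => act_mem m u N x ?_ g⟩
  · rw [← hs, Submodule.span_le]
    exact fun x hx => hle x hx (hself x)
  · rw [mem_range_iff]
    refine (show N ≤ LinearMap.ker ((N.mkQ.lTensor C).comp (act m u)) from ?_) hx
    refine iSup₂_le fun y hy => Submodule.span_le.2 fun z hz => ?_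
    obtain ⟨b, hb, rfl⟩ := Finset.mem_image.1 (Finset.mem_coe.1 hz)
    have h := (mem_range_iff _ _).1 (hstab y b hb)
    change N.mkQ.lTensor C _ = 0
    rw [show N.mkQ = (Submodule.factor (hle y hy)).comp (Nx y).mkQ from
      (Submodule.factor_comp_mk (hle y hy)).symm, LinearMap.lTensor_comp, LinearMap.comp_apply, h, map_zero]

end Groth.Sga3.GModStable
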