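import Groth.Agent.Sga3.GModStable.Basic
import Mathlib.RingTheory.Noetherian.Basic
import Mathlib.RingTheory.Flat.Stability

/-!
Over a noetherian base, finitely generated submodules of a module with an action of a flat group scheme
lie in finitely generated stable submodules.
-/

set_option autoImplicit false

universe u

open CategoryTheory Limits MonoidalCategory CartesianMonoidalCategory MonObj GrpObj AlgebraicGeometry
open scoped TensorProduct

noncomputable section

namespace Groth.Sga3.GModStable

variable {R : Type u} [CommRing R]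

/-- the ring of a flat covering point of a flat scheme is flat -/
theorem flat_of_cover {Y : Over (Spec (CommRingCat.of R))} [Flat Y.hom] {C : Type u} [CommRing C] [Algebra R C]
    (u : VecGrp.pt R C ⟶ Y) [Flat u.left] : Module.Flat R C := by
  have h : Flat (u.left ≫ Y.hom) := inferInstance
  rw [Over.w u] at h
  exact RingHom.flat_algebraMap_iff.1 ((HasRingHomProperty.Spec_iff (P := @Flat)).1 h)

/-- every element of `C ⊗ E` comes from a finitely generated submodule -/
theorem exists_fg_mem_range {E : Type u} [AddCommGroup E] [Module R E] {C : Type u} [CommRing C] [Algebra R C]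
    (z : C ⊗[R] E) : ∃ N : Submodule R E, N.FG ∧ N.mkQ.lTensor C z = 0 := by
  induction z using TensorProduct.induction_on with
  | zero => exact ⟨⊥, Submodule.fg_bot, map_zero _⟩
  | tmul c e => exact ⟨R ∙ e, Submodule.fg_span_singleton e, by
      rw [LinearMap.lTensor_tmul, Submodule.mkQ_apply, (Submodule.Quotient.mk_eq_zero _).2 (Submodule.mem_span_singleton_self e),
        TensorProduct.tmul_zero]⟩
  | add x y hx hy =>
    obtain ⟨N, hN, hNx⟩ := hx
    obtain ⟨N', hN', hNy⟩ := hy
    refine ⟨N ⊔ N', hN.sup hN', ?_⟩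
    have h : ∀ (P : Submodule R E) (w : C ⊗[R] E), P ≤ N ⊔ N' → P.mkQ.lTensor C w = 0 →
        (N ⊔ N').mkQ.lTensor C w = 0 := by
      intro P w hP hw
      rw [show (N ⊔ N').mkQ = (Submodule.factor hP).comp P.mkQ from (Submodule.factor_comp_mk hP).symm,
        LinearMap.lTensor_comp, LinearMap.comp_apply, hw, map_zero]
    rw [map_add, h N x le_sup_left hNx, h N' y le_sup_right hNy, add_zero]

variable {G : Over (Spec (CommRingCat.of R))} [GrpObj G] [Flat G.hom] [QuasiCompact G.hom] [QuasiSeparated G.hom]
  {E : Type u} [AddCommGroup E] [Module R E]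

theorem exists_fg_stable_noetherian [IsNoetherianRing R] (m : VecGrp.GMod G E) (M : Submodule R E) (hM : M.FG) :
    ∃ N : Submodule R E, M ≤ N ∧ N.FG ∧
      ∀ (B : Type u) [CommRing B] [Algebra R B] (g : VecGrp.pt R B ⟶ G) (x : E), x ∈ N →
        m.ρ B g ((1 : B) ⊗ₜ[R] x) ∈ LinearMap.range (N.subtype.baseChange B) := by
  classical
  obtain ⟨C, _, _, u, hf, hs, hqc⟩ := exists_cover G
  haveI := hf; haveI := hs; haveI := hqc
  haveI : Module.Flat R C := flat_of_cover u
  obtain ⟨s, hs⟩ := hM
  choose P hP hPz using fun x : E => exists_fg_mem_range (act m u x)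
  let N₀ := ⨆ x ∈ s, P x
  have hN₀ : N₀.FG := Submodule.fg_biSup s P fun x _ => hP x
  let f : E →ₗ[R] C ⊗[R] (E ⧸ N₀) := (N₀.mkQ.lTensor C).comp (act m u)
  let N := LinearMap.ker f
  have hmem : ∀ x, x ∈ N ↔ act m u x ∈ LinearMap.range (N₀.subtype.baseChange C) := fun x => by
    rw [mem_range_iff]
    rfl
  have hsub : N ≤ N₀ := by
    intro x hx
    have h := act_mem m u N₀ x ((hmem x).1 hx) (1 : VecGrp.pt R R ⟶ G)
    rw [act_one, mem_range_iff, LinearMap.lTensor_tmul] at h
    have h' := congrArg (TensorProduct.lid R (E ⧸ N₀)) h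
    simpa [Submodule.Quotient.mk_eq_zero] using h'
  refine ⟨N, ?_, ?_, fun B _ _ g x hx => act_mem m u N x ?_ g⟩
  · rw [← hs, Submodule.span_le]
    intro x hx
    change f x = 0
    have hle : P x ≤ N₀ := le_iSup₂ (f := fun x (_ : x ∈ s) => P x) x hx
    rw [LinearMap.comp_apply, show N₀.mkQ = (Submodule.factor hle).comp (P x).mkQ from
      (Submodule.factor_comp_mk hle).symm, LinearMap.lTensor_comp, LinearMap.comp_apply, hPz, map_zero]
  · haveI : IsNoetherian R N₀ := isNoetherian_of_fg_of_noetherian _ hN₀
    exact fg_of_le hsub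
  · have hex := Module.Flat.lTensor_exact C (LinearMap.exact_subtype_ker_map f)
    obtain ⟨z, hz⟩ : act m u x ∈ Set.range ((LinearMap.ker f).subtype.lTensor C) := by
      refine (hex _).1 ?_
      rw [LinearMap.lTensor_comp, LinearMap.comp_apply]
      apply (TensorProduct.assoc R C C (E ⧸ N₀)).symm.injective
      have hnat : ∀ w : C ⊗[R] (C ⊗[R] E), (TensorProduct.assoc R C C (E ⧸ N₀)).symm
          ((N₀.mkQ.lTensor C).lTensor C w) =
            N₀.mkQ.lTensor (C ⊗[R] C) ((TensorProduct.assoc R C C E).symm w) := by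
        intro w
        rw [LinearMap.lTensor_tensor]
        simp
      rw [map_zero, hnat, assoc_lTensor_act_act]
      exact (mem_range_iff N₀ _).1 (act_mem m u N₀ x ((hmem x).1 hx) _)
    exact ⟨z, hz⟩
where
  fg_of_le {N N₀ : Submodule R E} [IsNoetherian R N₀] (h : N ≤ N₀) : N.FG := by
    have := (IsNoetherian.noetherian (N.comap N₀.subtype)).map N₀.subtype
    rwa [Submodule.map_comap_eq_self (by simpa using h)] at this

end Groth.Sga3.GModStable
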