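import Groth.Prelude.Def_VecGrp
import Mathlib.AlgebraicGeometry.Sites.Fpqc
import Mathlib.AlgebraicGeometry.Morphisms.Flat
import Mathlib.AlgebraicGeometry.Limits
import Mathlib.RingTheory.Flat.FaithfullyFlat.Basic
import Mathlib.LinearAlgebra.TensorProduct.RightExactness

/-!
Affine test points covering a quasi-compact quasi-separated scheme over an affine base, and the
reduction of conditions on all points of a module with group action to the covering point.
-/

set_option autoImplicit false

universe u v

open CategoryTheory Limits MonoidalCategory CartesianMonoidalCategory MonObj GrpObj AlgebraicGeometry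
open scoped TensorProduct

noncomputable section

namespace Groth.Sga3.GModStable

variable {R : Type u} [CommRing R]

/-- morphisms of affine test schemes come from algebra maps -/
theorem exists_ptMap {B B' : Type u} [CommRing B] [Algebra R B] [CommRing B'] [Algebra R B']
    (a : VecGrp.pt R B' ⟶ VecGrp.pt R B) : ∃ φ : B →ₐ[R] B', a = VecGrp.ptMap φ := by
  let f := Spec.preimage a.left
  have hf : Spec.map f = a.left := Spec.map_preimage _
  have h1 : CommRingCat.ofHom (algebraMap R B) ≫ f = CommRingCat.ofHom (algebraMap R B') := by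
    apply Spec.map_injective
    rw [Spec.map_comp, hf]
    exact Over.w a
  refine ⟨⟨f.hom, fun r => congrArg (fun h => h.hom r) h1⟩, ?_⟩
  apply Over.OverMorphism.ext
  rw [VecGrp.ptMap_left]
  exact hf.symm

/-- an affine point covering a quasi-compact quasi-separated scheme over the base -/
theorem exists_cover (Y : Over (Spec (CommRingCat.of R))) [QuasiCompact Y.hom] [QuasiSeparated Y.hom] :
    ∃ (C : Type u) (_ : CommRing C) (_ : Algebra R C) (u : VecGrp.pt R C ⟶ Y),
      Flat u.left ∧ Surjective u.left ∧ QuasiCompact u.left := by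
  haveI : CompactSpace Y.left := QuasiCompact.compactSpace_of_compactSpace Y.hom
  let 𝒰 := Y.left.affineCover.finiteSubcover
  haveI : ∀ i, IsAffine (𝒰.X i) := fun i =>
    inferInstanceAs (IsAffine (Y.left.affineCover.X _))
  let X' : Scheme.{u} := ∐ 𝒰.X
  haveI : IsAffine X' := inferInstance
  let π : X' ⟶ Y.left := Sigma.desc 𝒰.f
  have hfl : Flat π := IsZariskiLocalAtSource.sigmaDesc fun i => inferInstance
  have hsur : Surjective π := ⟨fun y => by
    obtain ⟨i, z, hz⟩ := 𝒰.exists_eq y
    refine ⟨(Sigma.ι 𝒰.X i).base z, ?_⟩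
    rw [← hz, ← Scheme.Hom.comp_apply]
    simp [π]⟩
  let f := Spec.preimage (X'.isoSpec.inv ≫ π ≫ Y.hom)
  letI : Algebra R Γ(X', ⊤) := f.hom.toAlgebra
  refine ⟨Γ(X', ⊤), inferInstance, inferInstance, Over.homMk (X'.isoSpec.inv ≫ π) ?_, ?_, ?_, ?_⟩
  · change (X'.isoSpec.inv ≫ π) ≫ Y.hom = Spec.map _
    rw [Category.assoc]
    exact (Spec.map_preimage _).symm
  · change Flat (X'.isoSpec.inv ≫ π)
    infer_instance
  · change Surjective (X'.isoSpec.inv ≫ π)
    infer_instance
  · change QuasiCompact (X'.isoSpec.inv ≫ π)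
    haveI : QuasiCompact ((X'.isoSpec.inv ≫ π) ≫ Y.hom) := inferInstance
    exact QuasiCompact.of_comp (X'.isoSpec.inv ≫ π) Y.hom

variable {C : Type u} [CommRing C] [Algebra R C] {Y : Over (Spec (CommRingCat.of R))}
  (u : VecGrp.pt R C ⟶ Y) [Flat u.left] [Surjective u.left] [QuasiCompact u.left] [QuasiSeparated Y.hom]

/-- every point factors through the covering point after a faithfully flat extension -/
theorem exists_refine {B : Type u} [CommRing B] [Algebra R B] (g : VecGrp.pt R B ⟶ Y) :
    ∃ (B' : Type u) (_ : CommRing B') (_ : Algebra R B') (φ : B →ₐ[R] B') (ψ : C →ₐ[R] B'),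
      φ.toRingHom.FaithfullyFlat ∧ VecGrp.ptMap φ ≫ g = VecGrp.ptMap ψ ≫ u := by
  let W : Over (Spec (CommRingCat.of R)) :=
    Over.mk (pullback.fst g.left u.left ≫ (VecGrp.pt R B).hom)
  let a : W ⟶ VecGrp.pt R B := Over.homMk (pullback.fst g.left u.left) rfl
  let b : W ⟶ VecGrp.pt R C := Over.homMk (pullback.snd g.left u.left) (by
    change pullback.snd g.left u.left ≫ (VecGrp.pt R C).hom = pullback.fst g.left u.left ≫ (VecGrp.pt R B).hom
    rw [← Over.w g, ← Over.w u, pullback.condition_assoc])
  haveI : QuasiSeparated (VecGrp.pt R C).hom :=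
    inferInstanceAs (QuasiSeparated (Spec.map (CommRingCat.ofHom (algebraMap R C))))
  haveI : QuasiSeparated (VecGrp.pt R B).hom :=
    inferInstanceAs (QuasiSeparated (Spec.map (CommRingCat.ofHom (algebraMap R B))))
  haveI : QuasiCompact (VecGrp.pt R B).hom :=
    inferInstanceAs (QuasiCompact (Spec.map (CommRingCat.ofHom (algebraMap R B))))
  haveI : QuasiSeparated u.left := by
    haveI : QuasiSeparated (u.left ≫ Y.hom) := by rw [Over.w u]; infer_instance
    exact QuasiSeparated.of_comp u.left Y.hom
  haveI : QuasiCompact W.hom := by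
    change QuasiCompact (pullback.fst g.left u.left ≫ (VecGrp.pt R B).hom)
    infer_instance
  haveI : QuasiSeparated W.hom := by
    change QuasiSeparated (pullback.fst g.left u.left ≫ (VecGrp.pt R B).hom)
    infer_instance
  obtain ⟨B', _, _, w, hwf, hws, -⟩ := exists_cover W
  obtain ⟨φ, hφ⟩ := exists_ptMap (w ≫ a)
  obtain ⟨ψ, hψ⟩ := exists_ptMap (w ≫ b)
  refine ⟨B', inferInstance, inferInstance, φ, ψ, ?_, ?_⟩
  · haveI := hwf
    haveI := hws
    have h : Flat (w.left ≫ pullback.fst g.left u.left) ∧ Surjective (w.left ≫ pullback.fst g.left u.left) :=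
      ⟨inferInstance, inferInstance⟩
    rw [show w.left ≫ pullback.fst g.left u.left = Spec.map (CommRingCat.ofHom φ.toRingHom) by
      rw [← VecGrp.ptMap_left, ← hφ]; rfl] at h
    exact (flat_and_surjective_SpecMap_iff _).1 h
  · rw [← hφ, ← hψ, Category.assoc, Category.assoc]
    congr 1
    exact Over.OverMorphism.ext pullback.condition

/-- a faithfully flat extension separates elements of a tensor product -/
theorem Wmap_injective {B B' : Type u} [CommRing B] [Algebra R B] [CommRing B'] [Algebra R B']
    (φ : B →ₐ[R] B') (h : φ.toRingHom.FaithfullyFlat) (Q : Type u) [AddCommGroup Q] [Module R Q] :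
    Function.Injective (VecGrp.Wmap (M := Q) φ) := by
  algebraize [φ.toRingHom]
  haveI : IsScalarTower R B B' := IsScalarTower.of_algebraMap_eq fun r => (φ.commutes r).symm
  let e := TensorProduct.AlgebraTensorModule.cancelBaseChange R B B B' Q
  have he : ∀ x : B ⊗[R] Q, e ((1 : B') ⊗ₜ[B] x) = VecGrp.Wmap φ x := by
    intro x
    induction x using TensorProduct.induction_on with
    | zero => simp
    | tmul b q => simp [e, Algebra.smul_def]; rfl
    | add x y hx hy => simp [TensorProduct.tmul_add, hx, hy]
  intro x y hxy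
  rw [← he, ← he] at hxy
  exact Module.FaithfullyFlat.tensorProduct_mk_injective (A := B) (B := B') _ (e.injective hxy)

/-- the image of a submodule after base change is a kernel -/
theorem mem_range_iff {E : Type u} [AddCommGroup E] [Module R E] (N : Submodule R E) {B : Type u} [CommRing B]
    [Algebra R B] (x : B ⊗[R] E) :
    x ∈ LinearMap.range (N.subtype.baseChange B) ↔ N.mkQ.lTensor B x = 0 := by
  rw [(lTensor_exact B (LinearMap.exact_subtype_mkQ N) (Submodule.mkQ_surjective N)) x]
  exact ⟨fun ⟨z, hz⟩ => ⟨z, hz⟩, fun ⟨z, hz⟩ => ⟨z, hz⟩⟩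

theorem Wmap_lTensor {E Q : Type u} [AddCommGroup E] [Module R E] [AddCommGroup Q] [Module R Q]
    {B B' : Type u} [CommRing B] [Algebra R B] [CommRing B'] [Algebra R B']
    (φ : B →ₐ[R] B') (f : E →ₗ[R] Q) (x : B ⊗[R] E) :
    VecGrp.Wmap φ (f.lTensor B x) = f.lTensor B' (VecGrp.Wmap φ x) := by
  induction x using TensorProduct.induction_on with
  | zero => simp
  | tmul b m => simp
  | add x y hx hy => simp only [map_add, hx, hy]

variable {G : Over (Spec (CommRingCat.of R))} [GrpObj G] {E : Type u} [AddCommGroup E] [Module R E]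
  (m : VecGrp.GMod G E)

/-- the action of a point on the elements of the module -/
def act {B : Type u} [CommRing B] [Algebra R B] (g : VecGrp.pt R B ⟶ G) : E →ₗ[R] B ⊗[R] E :=
  ((m.ρ B g).toLinearMap.restrictScalars R).comp (TensorProduct.mk R B E 1)

theorem act_apply {B : Type u} [CommRing B] [Algebra R B] (g : VecGrp.pt R B ⟶ G) (x : E) :
    act m g x = m.ρ B g ((1 : B) ⊗ₜ[R] x) := rfl

theorem Wmap_act {B B' : Type u} [CommRing B] [Algebra R B] [CommRing B'] [Algebra R B'] (φ : B →ₐ[R] B')
    (g : VecGrp.pt R B ⟶ G) (x : E) : VecGrp.Wmap φ (act m g x) = act m (VecGrp.ptMap φ ≫ g) x := by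
  rw [act_apply, m.naturality, VecGrp.Wmap_tmul, map_one]
  rfl

omit u in
/-- membership in a submodule may be tested at the covering point -/
theorem act_mem {C : Type u} [CommRing C] [Algebra R C] (u : VecGrp.pt R C ⟶ G) [Flat u.left]
    [Surjective u.left] [QuasiCompact u.left] [QuasiSeparated G.hom] (N : Submodule R E) (x : E)
    (h : act m u x ∈ LinearMap.range (N.subtype.baseChange C)) {B : Type u} [CommRing B] [Algebra R B]
    (g : VecGrp.pt R B ⟶ G) : act m g x ∈ LinearMap.range (N.subtype.baseChange B) := by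
  rw [mem_range_iff] at h ⊢
  obtain ⟨B', _, _, φ, ψ, hφ, he⟩ := exists_refine u g
  apply Wmap_injective φ hφ
  rw [map_zero, Wmap_lTensor, Wmap_act, he, ← Wmap_act, ← Wmap_lTensor, h, map_zero]

/-- the tautological reassociation of an iterated action -/
theorem assoc_lTensor_act {B C : Type u} [CommRing B] [Algebra R B] [CommRing C] [Algebra R C]
    (g : VecGrp.pt R B ⟶ G) (z : C ⊗[R] E) :
    (TensorProduct.assoc R C B E).symm ((act m g).lTensor C z) =
      m.ρ (C ⊗[R] B) (VecGrp.ptMap (Algebra.TensorProduct.includeRight : B →ₐ[R] C ⊗[R] B) ≫ g)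
        (VecGrp.Wmap (Algebra.TensorProduct.includeLeft : C →ₐ[R] C ⊗[R] B) z) := by
  induction z using TensorProduct.induction_on with
  | zero => simp
  | add x y hx hy => simp only [map_add, hx, hy]
  | tmul c y =>
    have h1 : ∀ w : B ⊗[R] E, (TensorProduct.assoc R C B E).symm (c ⊗ₜ[R] w) =
        ((c ⊗ₜ[R] (1 : B)) : C ⊗[R] B) • VecGrp.Wmap (Algebra.TensorProduct.includeRight : B →ₐ[R] C ⊗[R] B) w := by
      intro w
      induction w using TensorProduct.induction_on with
      | zero => simp
      | tmul b e => simp [TensorProduct.smul_tmul']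
      | add p q hp hq => simp only [TensorProduct.tmul_add, map_add, hp, hq, smul_add]
    rw [LinearMap.lTensor_tmul, h1, Wmap_act, act_apply, VecGrp.Wmap_tmul, ← map_smul,
      TensorProduct.smul_tmul', smul_eq_mul, _root_.mul_one]
    rfl

/-- the action of a product, iterated -/
theorem assoc_lTensor_act_act {B C : Type u} [CommRing B] [Algebra R B] [CommRing C] [Algebra R C]
    (g : VecGrp.pt R B ⟶ G) (g' : VecGrp.pt R C ⟶ G) (x : E) :
    (TensorProduct.assoc R C B E).symm ((act m g).lTensor C (act m g' x)) =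
      act m ((VecGrp.ptMap (Algebra.TensorProduct.includeRight : B →ₐ[R] C ⊗[R] B) ≫ g) *
        (VecGrp.ptMap (Algebra.TensorProduct.includeLeft : C →ₐ[R] C ⊗[R] B) ≫ g')) x := by
  rw [assoc_lTensor_act, Wmap_act, act_apply, act_apply, map_mul]
  rfl

/-- the identity point acts trivially -/
theorem act_one (x : E) : act m (1 : VecGrp.pt R R ⟶ G) x = (1 : R) ⊗ₜ[R] x := by
  rw [act_apply, map_one]
  rfl

end Groth.Sga3.GModStable
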